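import Groth.Agent.SmoothCrit.Stalk
import Groth.Agent.SmoothTorsor.Chart
import Groth.Agent.AlgSpDec.FppfDescent
import Groth.Agent.AlgSpDec.LimOpen
import Groth.Agent.AlgSpDec.LqfScheme
import Groth.Agent.AlgSpDec.Fibres
import Groth.Agent.AlgSpLib.InfCharts
import Groth.Agent.S1488

/-!
# Infinitesimal criteria of smoothness for algebraic spaces
-/

set_option autoImplicit false
set_option backward.isDefEq.respectTransparency false
set_option backward.isDefEq.respectTransparency.types false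

universe u

open CategoryTheory CategoryTheory.Limits AlgebraicGeometry AlgSp IsLocalRing

namespace Groth.Agent.SmoothCrit

open Groth.Agent.AlgSpLib Groth.Agent.AlgSpDec

variable {S : Scheme.{u}} {F G : Sp S} {f : F ⟶ G}

/-- Lifts for a formally smooth morphism along any square zero surjection. -/
theorem exists_lift_of_surjective (hf : IsFormallySmoothMor f) {B' B : Type u} [CommRing B'] [CommRing B]
    (π : B' →+* B) (hπ : Function.Surjective π) (hsq : RingHom.ker π ^ 2 = ⊥)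
    (s : Spec (CommRingCat.of B') ⟶ S)
    (α : (yon S).obj (Over.mk (Spec.map (CommRingCat.ofHom π) ≫ s)) ⟶ F)
    (β : (yon S).obj (Over.mk s) ⟶ G)
    (w : α ≫ f = (yon S).map (Over.homMk (Spec.map (CommRingCat.ofHom π)) :
      Over.mk (Spec.map (CommRingCat.ofHom π) ≫ s) ⟶ Over.mk s) ≫ β) :
    ∃ γ : (yon S).obj (Over.mk s) ⟶ F, (yon S).map (Over.homMk (Spec.map (CommRingCat.ofHom π)) :
      Over.mk (Spec.map (CommRingCat.ofHom π) ≫ s) ⟶ Over.mk s) ≫ γ = α ∧ γ ≫ f = β := by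
  let q := (RingHom.quotientKerEquivOfSurjective hπ).toCommRingCatIso
  have hq : CommRingCat.ofHom (Ideal.Quotient.mk (RingHom.ker π)) ≫ q.hom = CommRingCat.ofHom π := by
    ext x; rfl
  let e : Over.mk (Spec.map (CommRingCat.ofHom (Ideal.Quotient.mk (RingHom.ker π))) ≫ s) ≅
      Over.mk (Spec.map (CommRingCat.ofHom π) ≫ s) := Over.isoMk (Scheme.Spec.mapIso q.symm.op) (by
    change Spec.map q.inv ≫ Spec.map _ ≫ s = Spec.map _ ≫ s
    rw [← Category.assoc, ← Spec.map_comp, ← hq, Category.assoc, q.hom_inv_id, Category.comp_id])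
  have he : e.hom ≫ (Over.homMk (Spec.map (CommRingCat.ofHom π)) :
      Over.mk (Spec.map (CommRingCat.ofHom π) ≫ s) ⟶ Over.mk s) =
      Over.homMk (Spec.map (CommRingCat.ofHom (Ideal.Quotient.mk (RingHom.ker π)))) rfl :=
    Over.OverMorphism.ext (by
      change Spec.map q.inv ≫ Spec.map _ = Spec.map _
      rw [← Spec.map_comp, ← hq, Category.assoc, q.hom_inv_id, Category.comp_id])
  obtain ⟨γ, h1, h2⟩ := hf
    { A := B', I := RingHom.ker π, sq_zero := hsq, str := s, top := (yon S).map e.hom ≫ α, bot := β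
      comm := by rw [Category.assoc, w, ← Functor.map_comp_assoc, he] }
  refine ⟨γ, ?_, h2⟩
  rw [← cancel_epi ((yon S).map e.hom), ← Functor.map_comp_assoc, he]
  exact h1

theorem ker_sq_eq_bot {B' B : Type u} [CommRing B'] [CommRing B] [IsLocalRing B'] [IsLocalRing B]
    {π : B' →+* B} {t : B'} (ht : RingHom.ker π = Ideal.span {t})
    (htm : ∀ a ∈ maximalIdeal B', a * t = 0) : RingHom.ker π ^ 2 = ⊥ := by
  have htm' : t ∈ maximalIdeal B' :=
    le_maximalIdeal (RingHom.ker_ne_top π) (ht.ge (Ideal.subset_span rfl))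
  rw [ht, pow_two, Ideal.span_singleton_mul_span_singleton, htm t htm', Ideal.span_singleton_eq_bot]

/-- A point near which a morphism is smooth has an open neighbourhood on which it is formally smooth. -/
theorem exists_open_formallySmooth {x : Points F}
    (hx : HasAtMor (fun U _ h u => ∃ W : U.Opens, u ∈ W ∧ Smooth (W.ι ≫ h)) f x) :
    ∃ (X' : Sp S) (j : X' ⟶ F), RepWith @IsOpenImmersion j ∧ x ∈ Set.range (Points.map j) ∧
      IsFormallySmoothMor (j ≫ f) := by
  obtain ⟨U, V, a, b, h, u, ha, hb, w, rfl, W, huW, hW⟩ := hx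
  let jW : Over.mk (W.ι ≫ U.hom) ⟶ U := Over.homMk W.ι rfl
  let a₁ := (yon S).map jW ≫ a
  have ha₁ : RepWith @Etale a₁ :=
    repWith_comp ((repWith_yon_map_iff _ jW).2 (inferInstanceAs (Etale W.ι))) ha
  obtain ⟨X', j, hj, hrange⟩ :=
    AlgSpDec.Fppf.exists_open_subsheaf (AlgSpLib.isOpenMap_ofPt ha₁).isOpen_range
  obtain ⟨a', ha'⟩ := exists_factor_open hj a₁ fun v => hrange.ge ⟨v, rfl⟩
  have hje : RepWith @Etale j :=
    repWith_mono (fun _ _ g (hg : IsOpenImmersion g) => (inferInstance : Etale g)) _ hj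
  have hae : RepWith @Etale a' := repWith_etale_of_comp a' j (by rw [ha']; exact ha₁) hje
  have := mono_of_openImmersion hj
  have has : RepWith @Surjective a' := repWith_surjective_of_surjective hae.rep fun z => by
    obtain ⟨v, hv⟩ := hrange.le ⟨z, rfl⟩
    refine ⟨Points.ofScheme _ v, injective_points_map_of_mono j ?_⟩
    rw [← hv, ← ha', ← Points.ofPt_eq_map_ofScheme, Points.map_ofPt]
  refine ⟨X', j, hj, hrange.ge ⟨⟨u, huW⟩, ofPt_comp jW a ⟨u, huW⟩⟩,
    SmoothTorsor.isFormallySmoothMor_of_chart (h := jW ≫ h) hae has hb ?_ ?_⟩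
  · rw [← Category.assoc, ha', Category.assoc, w, Functor.map_comp_assoc]
  · exact ((Groth.Agent.S1488.result _).1 hW).2

/-- A lift of spaces gives a lift of charts. -/
theorem exists_chart_lift {U V : Over S} {a : (yon S).obj U ⟶ F} {b : (yon S).obj V ⟶ G} {h : U ⟶ V}
    (ha : RepWith @Etale a) (hb : RepWith @Etale b) (w : a ≫ f = (yon S).map h ≫ b)
    {A : Type u} [CommRing A] (J : Ideal A) (hJ : J ^ 2 = ⊥) (α₀ : Spec (CommRingCat.of (A ⧸ J)) ⟶ U.left)
    (β₀ : Spec (CommRingCat.of A) ⟶ V.left)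
    (hw : Spec.map (CommRingCat.ofHom (Ideal.Quotient.mk J)) ≫ β₀ = α₀ ≫ h.left)
    (H : ∀ (α' : Over.mk (Spec.map (CommRingCat.ofHom (Ideal.Quotient.mk J)) ≫ β₀ ≫ V.hom) ⟶ U)
      (β' : Over.mk (β₀ ≫ V.hom) ⟶ V), α'.left = α₀ → β'.left = β₀ →
      ((yon S).map α' ≫ a) ≫ f = (yon S).map (Over.homMk (Spec.map (CommRingCat.ofHom (Ideal.Quotient.mk J))) :
          Over.mk (Spec.map (CommRingCat.ofHom (Ideal.Quotient.mk J)) ≫ β₀ ≫ V.hom) ⟶ Over.mk (β₀ ≫ V.hom)) ≫
        (yon S).map β' ≫ b →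
      ∃ γ, (yon S).map (Over.homMk (Spec.map (CommRingCat.ofHom (Ideal.Quotient.mk J))) :
          Over.mk (Spec.map (CommRingCat.ofHom (Ideal.Quotient.mk J)) ≫ β₀ ≫ V.hom) ⟶ Over.mk (β₀ ≫ V.hom)) ≫
          γ = (yon S).map α' ≫ a ∧ γ ≫ f = (yon S).map β' ≫ b) :
    ∃ γ₀ : Spec (CommRingCat.of A) ⟶ U.left,
      Spec.map (CommRingCat.ofHom (Ideal.Quotient.mk J)) ≫ γ₀ = α₀ ∧ γ₀ ≫ h.left = β₀ := by
  obtain ⟨t, β', ht, hβ, hw'⟩ := exists_infSq_yon h J hJ α₀ β₀ hw
  obtain ⟨γ, hγ₁, hγ₂⟩ := H t β' ht hβ (by rw [Category.assoc, w, reassoc_of% hw'])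
  obtain ⟨l, hl₁, hl₂⟩ := ((isFormallyEtaleMor_iff _).1 ((formal_of_repWith a).2.1 ha)).1
    { A := A, I := J, sq_zero := hJ, str := β₀ ≫ V.hom, top := (yon S).map t, bot := γ, comm := hγ₁.symm }
  have e : l ≫ (yon S).map h = (yon S).map β' :=
    ((isFormallyEtaleMor_iff _).1 ((formal_of_repWith b).2.1 hb)).2
      { A := A, I := J, sq_zero := hJ, str := β₀ ≫ V.hom, top := (yon S).map t ≫ (yon S).map h
        bot := (yon S).map β' ≫ b
        comm := by rw [Category.assoc, reassoc_of% hw'] }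
      _ _ ((Category.assoc _ _ _).symm.trans (congrArg (· ≫ (yon S).map h) hl₁))
      (((Category.assoc _ _ _).trans (congrArg (l ≫ ·) w.symm)).trans
        ((Category.assoc _ _ _).symm.trans ((congrArg (· ≫ f) hl₂).trans hγ₂)))
      hw'.symm rfl
  obtain ⟨m, rfl⟩ := (yon S).map_surjective l
  exact ⟨m.left, (congrArg CommaMorphism.left ((yon S).map_injective (((yon S).map_comp _ _).trans hl₁))).trans ht,
    (congrArg CommaMorphism.left ((yon S).map_injective (((yon S).map_comp _ _).trans e))).trans hβ⟩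

theorem smooth_smoothLocus {U V : Scheme.{u}} (h : U ⟶ V) [LocallyOfFinitePresentation h] :
    Smooth (h.smoothLocus.ι ≫ h) := by
  refine Scheme.Hom.smoothLocus_eq_top_iff.1 ?_
  rw [← Scheme.Hom.preimage_smoothLocus_eq, Scheme.Opens.ι_preimage_self]

end Groth.Agent.SmoothCrit

namespace Groth.Agent.SmoothCrit

open Groth.Agent.AlgSpLib Groth.Agent.AlgSpDec

theorem isLocalHom_of_residue_surjective {R T : CommRingCat.{u}} [IsLocalRing R] [IsLocalRing T]
    (ψ : R ⟶ T) (h : Function.Surjective ((residue T).comp ψ.hom)) : IsLocalHom ψ.hom := by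
  have hk : RingHom.ker ((residue T).comp ψ.hom) = maximalIdeal R :=
    IsLocalRing.eq_maximalIdeal (RingHom.ker_isMaximal_of_surjective _ h)
  refine ⟨fun b hb => ?_⟩
  by_contra hn
  have : b ∈ RingHom.ker ((residue T).comp ψ.hom) := hk ▸ (mem_maximalIdeal b).2 hn
  exact (residue_eq_zero_iff _).1 this hb

theorem mem_smoothLocus_of_lift {U V : Scheme.{u}} (h : U ⟶ V) [LocallyOfFiniteType h]
    [LocallyOfFinitePresentation h] [IsLocallyNoetherian V] (u : U)
    (H : ∀ (A : Type u) [CommRing A] [IsLocalRing A] [IsArtinianRing A] (J : Ideal A)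
      [IsLocalRing (A ⧸ J)] (t : A), J = Ideal.span {t} →
      (∀ a ∈ maximalIdeal A, a * t = 0) → J ^ 2 = ⊥ →
      ∀ (ψ : U.presheaf.stalk u ⟶ CommRingCat.of (A ⧸ J)) (β : Spec (CommRingCat.of A) ⟶ V),
        (Spec.map ψ ≫ U.fromSpecStalk u) (closedPoint (A ⧸ J)) = u →
        Function.Surjective ((residue (A ⧸ J)).comp ψ.hom) →
        Spec.map (CommRingCat.ofHom (Ideal.Quotient.mk J)) ≫ β = (Spec.map ψ ≫ U.fromSpecStalk u) ≫ h →
        ∃ γ : Spec (CommRingCat.of A) ⟶ U,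
          Spec.map (CommRingCat.ofHom (Ideal.Quotient.mk J)) ≫ γ = Spec.map ψ ≫ U.fromSpecStalk u ∧
            γ ≫ h = β) :
    u ∈ h.smoothLocus := formallySmooth_stalkMap h u H

end Groth.Agent.SmoothCrit
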