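import Groth.Agent.LiftCrit.Basic
import Groth.Agent.AlgStLib.Noetherian
import Mathlib.AlgebraicGeometry.Morphisms.Smooth

/-!
# Smoothness at a point from small extensions of artinian local rings
-/

set_option autoImplicit false
set_option backward.isDefEq.respectTransparency false
set_option backward.isDefEq.respectTransparency.types false

universe u

open CategoryTheory CategoryTheory.Limits AlgebraicGeometry IsLocalRing

namespace Groth.Agent.SmoothCrit

/-- A morphism from a local ring with closed point `u` factors through the stalk at `u`. -/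
theorem exists_stalk_factor {U : Scheme.{u}} {A : Type u} [CommRing A] [IsLocalRing A]
    (γ : Spec (CommRingCat.of A) ⟶ U) {u : U} (hu : γ (closedPoint A) = u) :
    ∃ χ : U.presheaf.stalk u ⟶ CommRingCat.of A, Spec.map χ ≫ U.fromSpecStalk u = γ := by
  subst hu
  exact ⟨_, Scheme.Spec_stalkClosedPointTo_fromSpecStalk γ⟩

theorem map_closedPoint_quotient {A : Type u} [CommRing A] [IsLocalRing A] (J : Ideal A)
    [IsLocalRing (A ⧸ J)] :
    Spec.map (CommRingCat.ofHom (Ideal.Quotient.mk J)) (closedPoint (A ⧸ J)) = closedPoint A := by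
  have := IsLocalHom.of_surjective (Ideal.Quotient.mk J) Ideal.Quotient.mk_surjective
  exact IsLocalRing.comap_closedPoint (Ideal.Quotient.mk J)

/-- An artinian local algebra with residue field of finite type is of finite type. -/
theorem finiteType_of_residue (R A : Type u) [CommRing R] [CommRing A] [IsLocalRing A]
    [IsArtinianRing A] [Algebra R A] [Algebra.FiniteType R (ResidueField A)] :
    Algebra.FiniteType R A := by
  classical
  obtain ⟨s, hs⟩ := (inferInstance : Algebra.FiniteType R (ResidueField A)).out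
  obtain ⟨t, ht⟩ := (IsNoetherian.noetherian (maximalIdeal A) : (maximalIdeal A).FG)
  choose g hg using residue_surjective (R := A)
  let C : Subalgebra R A := Algebra.adjoin R ((s.image g ∪ t : Finset A) : Set A)
  have hC : ∀ a : A, ∃ c ∈ C, a - c ∈ maximalIdeal A := fun a => by
    have hle : Algebra.adjoin R (s : Set (ResidueField A)) ≤
        C.map (IsScalarTower.toAlgHom R A (ResidueField A)) :=
      Algebra.adjoin_le fun x hx => ⟨g x, Algebra.subset_adjoin
        (Finset.mem_coe.2 (Finset.mem_union_left _ (Finset.mem_image_of_mem _ hx))), hg x⟩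
    rw [hs] at hle
    obtain ⟨c, hc, hc'⟩ := hle (Algebra.mem_top (x := residue A a))
    refine ⟨c, hc, ?_⟩
    rw [← residue_eq_zero_iff, map_sub, sub_eq_zero]
    exact hc'.symm
  have key : ∀ n, ∀ a ∈ maximalIdeal A ^ n, ∃ c ∈ C, a - c ∈ maximalIdeal A ^ (n + 1) := by
    intro n
    induction n with
    | zero => intro a _; simpa using hC a
    | succ n ih =>
      intro a ha
      rw [pow_succ] at ha
      refine Submodule.mul_induction_on ha (fun x hx y hy => ?_) fun x y ⟨c, hc, hc'⟩ ⟨d, hd, hd'⟩ =>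
        ⟨c + d, add_mem hc hd, by rw [add_sub_add_comm]; exact add_mem hc' hd'⟩
      rw [← ht] at hy
      induction hy using Submodule.span_induction generalizing x with
      | mem y hy =>
        obtain ⟨c, hc, hc'⟩ := ih x hx
        refine ⟨c * y, mul_mem hc (Algebra.subset_adjoin
          (Finset.mem_coe.2 (Finset.mem_union_right _ hy))), ?_⟩
        rw [← sub_mul, pow_succ (maximalIdeal A) (n + 1)]
        exact Ideal.mul_mem_mul hc' (ht.le (Submodule.subset_span hy))
      | zero => exact ⟨0, zero_mem _, by simp⟩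
      | add y z _ _ hy hz =>
        obtain ⟨c, hc, hc'⟩ := hy x hx
        obtain ⟨d, hd, hd'⟩ := hz x hx
        exact ⟨c + d, add_mem hc hd, by rw [mul_add, add_sub_add_comm]; exact add_mem hc' hd'⟩
      | smul r y _ hy =>
        obtain ⟨c, hc, hc'⟩ := hy (x * r) (Ideal.mul_mem_right _ _ hx)
        exact ⟨c, hc, by rwa [smul_eq_mul, ← mul_assoc]⟩
  obtain ⟨N, hN⟩ := IsArtinianRing.isNilpotent_jacobson_bot (R := A)
  rw [IsLocalRing.jacobson_eq_maximalIdeal ⊥ bot_ne_top] at hN
  refine ⟨⟨s.image g ∪ t, eq_top_iff.2 fun a _ => ?_⟩⟩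
  have : ∀ n, ∃ c ∈ C, a - c ∈ maximalIdeal A ^ n := fun n => by
    induction n with
    | zero => exact ⟨0, zero_mem _, by simp⟩
    | succ n ih =>
      obtain ⟨c, hc, hc'⟩ := ih
      obtain ⟨d, hd, hd'⟩ := key n _ hc'
      exact ⟨c + d, add_mem hc hd, by rwa [← sub_sub]⟩
  obtain ⟨c, hc, hc'⟩ := this N
  rw [hN, Submodule.zero_eq_bot, Ideal.mem_bot, sub_eq_zero] at hc'
  exact hc' ▸ hc

/-- A map from an artinian local scheme is of finite type if it is so on the closed point. -/
theorem locallyOfFiniteType_of_residue {V : Scheme.{u}} {A : Type u} [CommRing A] [IsLocalRing A]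
    [IsArtinianRing A] (β : Spec (CommRingCat.of A) ⟶ V)
    [hk : LocallyOfFiniteType (Spec.map (CommRingCat.ofHom (residue A)) ≫ β)] :
    LocallyOfFiniteType β := by
  obtain ⟨V₀, hV₀, hv, -⟩ := exists_isAffineOpen_mem_and_subset (X := V) (x := β (closedPoint A))
    (U := ⊤) trivial
  let β₀ : Spec (CommRingCat.of A) ⟶ V₀ := IsOpenImmersion.lift V₀.ι β (by
    rintro _ ⟨x, rfl⟩
    rw [Scheme.Opens.range_ι]
    exact (Scheme.preimage_eq_top_of_closedPoint_mem β hv).ge trivial)
  have e : β₀ ≫ V₀.ι = β := IsOpenImmersion.lift_fac _ _ _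
  obtain ⟨φ, hφ⟩ := Spec.map_surjective (β₀ ≫ hV₀.isoSpec.hom)
  let _ : Algebra Γ(V, V₀) A := φ.hom.toAlgebra
  have hk₀ : LocallyOfFiniteType ((Spec.map (CommRingCat.ofHom (residue A)) ≫ β₀) ≫ V₀.ι) := by
    rw [Category.assoc, e]; exact hk
  have : LocallyOfFiniteType (Spec.map (φ ≫ CommRingCat.ofHom (residue A))) := by
    rw [Spec.map_comp, hφ, ← Category.assoc]
    have := locallyOfFiniteType_of_comp (Spec.map (CommRingCat.ofHom (residue A)) ≫ β₀) V₀.ι
    infer_instance
  have : Algebra.FiniteType Γ(V, V₀) (ResidueField A) :=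
    RingHom.finiteType_algebraMap.1 ((HasRingHomProperty.Spec_iff (P := @LocallyOfFiniteType)).1 this)
  have h1 : LocallyOfFiniteType (β₀ ≫ hV₀.isoSpec.hom) := by
    rw [← hφ]
    exact (HasRingHomProperty.Spec_iff (P := @LocallyOfFiniteType)).2
      (RingHom.finiteType_algebraMap.2 (finiteType_of_residue Γ(V, V₀) A))
  rw [← e, show β₀ = (β₀ ≫ hV₀.isoSpec.hom) ≫ hV₀.isoSpec.inv by simp]
  infer_instance

/-- Smoothness at a point follows from lifting along small extensions at that point. -/
theorem formallySmooth_stalkMap {U V : Scheme.{u}} (h : U ⟶ V) [LocallyOfFiniteType h]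
    [IsLocallyNoetherian V] (u : U)
    (H : ∀ (A : Type u) [CommRing A] [IsLocalRing A] [IsArtinianRing A] (J : Ideal A)
      [IsLocalRing (A ⧸ J)] (t : A), J = Ideal.span {t} →
      (∀ a ∈ maximalIdeal A, a * t = 0) → J ^ 2 = ⊥ →
      ∀ (ψ : U.presheaf.stalk u ⟶ CommRingCat.of (A ⧸ J)) (β : Spec (CommRingCat.of A) ⟶ V),
        (Spec.map ψ ≫ U.fromSpecStalk u) (closedPoint (A ⧸ J)) = u →
        Function.Surjective ((residue (A ⧸ J)).comp ψ.hom) →
        Spec.map (CommRingCat.ofHom (Ideal.Quotient.mk J)) ≫ β = (Spec.map ψ ≫ U.fromSpecStalk u) ≫ h →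
        ∃ γ : Spec (CommRingCat.of A) ⟶ U,
          Spec.map (CommRingCat.ofHom (Ideal.Quotient.mk J)) ≫ γ = Spec.map ψ ≫ U.fromSpecStalk u ∧
            γ ≫ h = β) :
    (h.stalkMap u).hom.FormallySmooth := by
  let _ : Algebra (V.presheaf.stalk (h u)) (U.presheaf.stalk u) := (h.stalkMap u).hom.toAlgebra
  have : IsLocallyNoetherian U := LocallyOfFiniteType.isLocallyNoetherian h
  have : IsLocalHom (algebraMap (V.presheaf.stalk (h u)) (U.presheaf.stalk u)) :=
    inferInstanceAs (IsLocalHom (h.stalkMap u).hom)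
  have : Algebra.EssFiniteType (V.presheaf.stalk (h u)) (U.presheaf.stalk u) :=
    LocallyOfFiniteType.stalkMap h u
  refine LiftCrit.formallySmooth_of_adic (AdicSmooth.isAdicFormallySmooth_of_smallLift ?_)
  intro A _ _ _ _ _ J hJ2 hlen _ ψ _ hbij
  haveI : IsSimpleModule A J := Module.length_eq_one_iff.1 hlen
  have hann := IsSimpleModule.annihilator_isMaximal (R := A) (M := J)
  have hkill : ∀ a ∈ maximalIdeal A, ∀ x : J, a • x = 0 := fun a ha x =>
    Module.mem_annihilator.1 (IsLocalRing.eq_maximalIdeal hann ▸ ha) x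
  have : Nontrivial J := IsSimpleModule.nontrivial A J
  obtain ⟨t, ht⟩ := exists_ne (0 : J)
  have hspan : J = Ideal.span {(t : A)} := by
    refine le_antisymm (fun x hx => ?_) ((Ideal.span_singleton_le_iff_mem _).2 t.2)
    obtain ⟨c, hc⟩ := IsSimpleModule.toSpanSingleton_surjective A ht ⟨x, hx⟩
    exact Ideal.mem_span_singleton'.2 ⟨c, congrArg Subtype.val hc⟩
  let ψ' : U.presheaf.stalk u ⟶ CommRingCat.of (A ⧸ J) := CommRingCat.ofHom ψ.toRingHom
  let β : Spec (CommRingCat.of A) ⟶ V :=
    Spec.map (CommRingCat.ofHom (algebraMap (V.presheaf.stalk (h u)) A)) ≫ V.fromSpecStalk (h u)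
  have hcl : (Spec.map ψ' ≫ U.fromSpecStalk u) (closedPoint (A ⧸ J)) = u := by
    rw [Scheme.Hom.comp_apply]
    have : Spec.map ψ' (closedPoint (A ⧸ J)) = closedPoint (U.presheaf.stalk u) :=
      IsLocalRing.comap_closedPoint ψ.toRingHom
    rw [this]
    exact Scheme.fromSpecStalk_closedPoint
  obtain ⟨γ, hγ₁, hγ₂⟩ := H A J t hspan (fun a ha => congrArg Subtype.val (hkill a ha t)) hJ2 ψ' β
    hcl (fun y => by
      obtain ⟨z, hz⟩ := hbij.2 y
      obtain ⟨b, rfl⟩ := residue_surjective z
      exact ⟨b, (ResidueField.map_residue ψ.toRingHom b).symm.trans hz⟩) (by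
      rw [Category.assoc, ← Scheme.SpecMap_stalkMap_fromSpecStalk, ← Category.assoc, ← Category.assoc,
        ← Spec.map_comp, ← Spec.map_comp]
      congr 2
      ext a
      exact (ψ.commutes a).symm)
  obtain ⟨χ, hχ⟩ := exists_stalk_factor γ (u := u) (by
    rw [← map_closedPoint_quotient J, ← Scheme.Hom.comp_apply, hγ₁]
    exact hcl)
  refine ⟨⟨χ.hom, fun a => ?_⟩, AlgHom.ext fun b => ?_⟩
  · have e : h.stalkMap u ≫ χ = CommRingCat.ofHom (algebraMap (V.presheaf.stalk (h u)) A) := by
      apply Spec.map_injective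
      rw [← cancel_mono (V.fromSpecStalk (h u)), Spec.map_comp, Category.assoc,
        Scheme.SpecMap_stalkMap_fromSpecStalk, reassoc_of% hχ]
      exact hγ₂
    exact congrArg (fun r => r.hom a) e
  · have e : χ ≫ CommRingCat.ofHom (Ideal.Quotient.mk J) = ψ' := by
      apply Spec.map_injective
      rw [← cancel_mono (U.fromSpecStalk u), Spec.map_comp, Category.assoc, hχ, hγ₁]
    exact congrArg (fun r => r.hom b) e

/-- The closed point hypothesis makes the test maps locally of finite type. -/
theorem locallyOfFiniteType_test {U V : Scheme.{u}} (h : U ⟶ V) [LocallyOfFiniteType h] {u : U}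
    {W : U.Opens} (huW : u ∈ W) (hcl : IsClosed ({⟨u, huW⟩} : Set W)) {A : Type u} [CommRing A] [IsLocalRing A]
    [IsArtinianRing A] (J : Ideal A) [IsLocalRing (A ⧸ J)]
    (ψ : U.presheaf.stalk u ⟶ CommRingCat.of (A ⧸ J)) [IsLocalHom ψ.hom]
    (hψ : Function.Surjective ((residue (A ⧸ J)).comp ψ.hom)) (β : Spec (CommRingCat.of A) ⟶ V)
    (hβ : Spec.map (CommRingCat.ofHom (Ideal.Quotient.mk J)) ≫ β = (Spec.map ψ ≫ U.fromSpecStalk u) ≫ h) :
    LocallyOfFiniteType β := by
  have := IsLocalHom.of_surjective (Ideal.Quotient.mk J) Ideal.Quotient.mk_surjective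
  let u' : W.toScheme := ⟨u, huW⟩
  have hW : LocallyOfFiniteType (U.fromSpecResidueField (W.ι u')) := by
    have : IsClosedImmersion (W.toScheme.fromSpecResidueField u') :=
      isClosed_singleton_iff_isClosedImmersion.1 hcl
    have e : U.fromSpecResidueField (W.ι u') =
        inv (Spec.map (W.ι.residueFieldMap u')) ≫ W.toScheme.fromSpecResidueField u' ≫ W.ι := by
      rw [IsIso.eq_inv_comp, Scheme.Hom.SpecMap_residueFieldMap_fromSpecResidueField]
    rw [e]
    infer_instance
  replace hW : LocallyOfFiniteType (U.fromSpecResidueField u) := hW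
  -- the point over `U`
  let q : U.presheaf.stalk u ⟶ CommRingCat.of (ResidueField (A ⧸ J)) :=
    ψ ≫ CommRingCat.ofHom (residue (A ⧸ J))
  have : IsLocalHom q.hom := RingHom.isLocalHom_comp (residue (A ⧸ J)) ψ.hom
  have hd : Function.Surjective (U.descResidueField q).hom := fun y => by
    obtain ⟨b, hb⟩ := hψ y
    exact ⟨residue _ b, hb⟩
  have hg : LocallyOfFiniteType (Spec.map q ≫ U.fromSpecStalk u) := by
    rw [← U.descResidueField_fromSpecResidueField]
    have : IsClosedImmersion (Spec.map (U.descResidueField q)) :=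
      IsClosedImmersion.spec_of_surjective _ hd
    infer_instance
  -- the closed point of `A`
  let e : ResidueField A →+* ResidueField (A ⧸ J) := ResidueField.map (Ideal.Quotient.mk J)
  have he : Function.Bijective e :=
    AdicSmooth.residueField_map_bijective_of_surjective _ Ideal.Quotient.mk_surjective
  have : IsIso (CommRingCat.ofHom e) := (RingEquiv.ofBijective e he).toCommRingCatIso.isIso_hom
  have hc : Spec.map (CommRingCat.ofHom e) ≫ Spec.map (CommRingCat.ofHom (residue A)) ≫ β =
      (Spec.map q ≫ U.fromSpecStalk u) ≫ h := by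
    rw [← Category.assoc, ← Spec.map_comp, show CommRingCat.ofHom (residue A) ≫ CommRingCat.ofHom e =
      CommRingCat.ofHom (Ideal.Quotient.mk J) ≫ CommRingCat.ofHom (residue (A ⧸ J)) from rfl,
      Spec.map_comp, Category.assoc, hβ, show Spec.map q = _ from Spec.map_comp ψ _]
    simp only [Category.assoc]
  have : LocallyOfFiniteType (Spec.map (CommRingCat.ofHom (residue A)) ≫ β) := by
    rw [show Spec.map (CommRingCat.ofHom (residue A)) ≫ β =
      inv (Spec.map (CommRingCat.ofHom e)) ≫ (Spec.map q ≫ U.fromSpecStalk u) ≫ h by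
        rw [IsIso.eq_inv_comp, hc]]
    infer_instance
  exact locallyOfFiniteType_of_residue β

end Groth.Agent.SmoothCrit
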